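import Groth.Agent.GenFreeRedLib.Module
import Mathlib.RingTheory.Finiteness.ModuleFinitePresentation
import Mathlib.Algebra.TrivSqZeroExt.Basic

/-! Generic freeness of a finite module over a finite type algebra over a reduced ring. -/

set_option autoImplicit false
set_option backward.isDefEq.respectTransparency false
set_option backward.isDefEq.respectTransparency.types false
universe u

open TensorProduct

namespace GenFreeRedLib

variable {R : Type u} [CommRing R] {S : Type u} [CommRing S] [Algebra R S]

/-- If the base change of the square zero extension `S ⊕ M` is finitely presented, so is `M`. -/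
theorem finitePresentation_of_trivSqZero [Algebra.FiniteType R S] {E : Type u} [CommRing E]
    [Algebra R E] [Algebra S E] [IsScalarTower R S E] [Module.Finite S E] {M : Type u}
    [AddCommGroup M] [Module S M] (i : M →ₗ[S] E) (q : E →ₗ[S] M) (hqi : ∀ m, q (i m) = m)
    (f : R) (hfp : Algebra.FinitePresentation (Localization.Away f) (Localization.Away f ⊗[R] E)) :
    Module.FinitePresentation (Localization.Away (algebraMap R S f))
      (Localization.Away (algebraMap R S f) ⊗[S] M) := by
  let L := Localization.Away f
  let Sf := Localization.Away (algebraMap R S f)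
  let Ef := Localization.Away (algebraMap S E (algebraMap R S f))
  letI : Algebra L Sf := (Localization.awayMap (algebraMap R S) f).toAlgebra
  haveI : IsScalarTower R L Sf := IsScalarTower.of_algebraMap_eq fun r => by
    show algebraMap R Sf r = Localization.awayMap (algebraMap R S) f (algebraMap R L r)
    rw [Localization.awayMap, IsLocalization.Away.map, IsLocalization.map_eq]
    exact IsScalarTower.algebraMap_apply R S Sf r
  letI : Algebra Sf Ef := (Localization.awayMap (algebraMap S E) (algebraMap R S f)).toAlgebra
  haveI : IsScalarTower S Sf Ef := IsScalarTower.of_algebraMap_eq fun r => by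
    show algebraMap S Ef r =
      Localization.awayMap (algebraMap S E) (algebraMap R S f) (algebraMap S Sf r)
    rw [Localization.awayMap, IsLocalization.Away.map, IsLocalization.map_eq]
    exact IsScalarTower.algebraMap_apply S E Ef r
  letI : Algebra L Ef := ((algebraMap Sf Ef).comp (algebraMap L Sf)).toAlgebra
  haveI : IsScalarTower L Sf Ef := IsScalarTower.of_algebraMap_eq fun _ => rfl
  haveI : IsScalarTower R L Ef := IsScalarTower.of_algebraMap_eq fun r => by
    show algebraMap R Ef r = algebraMap Sf Ef (algebraMap L Sf (algebraMap R L r))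
    rw [← IsScalarTower.algebraMap_apply R L Sf, IsScalarTower.algebraMap_apply R S Sf,
      ← IsScalarTower.algebraMap_apply S Sf Ef]
    exact (IsScalarTower.algebraMap_apply R E Ef r).trans
      ((congrArg (algebraMap E Ef) (IsScalarTower.algebraMap_apply R S E r)).trans
        (IsScalarTower.algebraMap_apply S E Ef _).symm)
  haveI : IsLocalization (Algebra.algebraMapSubmonoid S (Submonoid.powers f)) Sf := by
    rw [Algebra.algebraMapSubmonoid_powers]; exact Localization.isLocalization
  haveI : IsLocalization (Algebra.algebraMapSubmonoid E (Submonoid.powers f)) Ef := by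
    rw [Algebra.algebraMapSubmonoid_powers, IsScalarTower.algebraMap_apply R S E]
    exact Localization.isLocalization
  haveI : IsLocalization (Algebra.algebraMapSubmonoid E (Submonoid.powers (algebraMap R S f))) Ef := by
    rw [Algebra.algebraMapSubmonoid_powers]; exact Localization.isLocalization
  haveI : Algebra.IsPushout R L E Ef :=
    (Algebra.isPushout_of_isLocalization (Submonoid.powers f) L E Ef).symm
  haveI : Algebra.IsPushout S Sf E Ef :=
    (Algebra.isPushout_of_isLocalization (Submonoid.powers (algebraMap R S f)) Sf E Ef).symm
  haveI : Algebra.IsPushout R L S Sf :=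
    (Algebra.isPushout_of_isLocalization (Submonoid.powers f) L S Sf).symm
  haveI : Algebra.FinitePresentation L Ef :=
    Algebra.FinitePresentation.equiv (Algebra.IsPushout.equiv R L E Ef)
  haveI : Algebra.FiniteType L Sf :=
    Algebra.FiniteType.equiv (inferInstance : Algebra.FiniteType L (L ⊗[R] S))
      (Algebra.IsPushout.equiv R L S Sf)
  haveI : Algebra.FinitePresentation Sf Ef :=
    Algebra.FinitePresentation.of_restrict_scalars_finitePresentation L Sf Ef
  let e := Algebra.IsPushout.equiv S Sf E Ef
  haveI : Module.Finite Sf Ef := Module.Finite.equiv e.toLinearEquiv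
  haveI : Module.FinitePresentation Sf Ef :=
    Module.FinitePresentation.of_finite_of_finitePresentation Sf Ef
  haveI : Module.FinitePresentation Sf (Sf ⊗[S] E) :=
    Module.FinitePresentation.of_equiv e.toLinearEquiv.symm
  have hP : (q.baseChange Sf).comp (i.baseChange Sf) = LinearMap.id := by
    rw [← LinearMap.baseChange_comp, show q.comp i = LinearMap.id from LinearMap.ext hqi,
      LinearMap.baseChange_id]
  refine Module.finitePresentation_of_surjective (q.baseChange Sf)
    (fun z => ⟨i.baseChange Sf z, LinearMap.congr_fun hP z⟩) ?_
  have hker : LinearMap.ker (q.baseChange Sf) =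
      LinearMap.range (LinearMap.id - (i.baseChange Sf).comp (q.baseChange Sf)) := by
    refine le_antisymm ?_ ?_
    · intro z hz
      refine ⟨z, ?_⟩
      rw [LinearMap.sub_apply, LinearMap.comp_apply, LinearMap.mem_ker.1 hz, map_zero, sub_zero]
      rfl
    · rintro _ ⟨z, rfl⟩
      rw [LinearMap.mem_ker, LinearMap.sub_apply, LinearMap.comp_apply, map_sub, LinearMap.id_apply,
        ← LinearMap.comp_apply (q.baseChange Sf), hP, LinearMap.id_apply, sub_self]
  rw [hker, LinearMap.range_eq_map]
  exact (Module.Finite.fg_top).map _

/-- A finitely presented module over a finitely presented algebra over a reduced ring is generically free. -/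
theorem exists_free_of_fp {L : Type u} [CommRing L] [IsReduced L] [Nontrivial L] {B : Type u}
    [CommRing B] [Algebra L B] [Algebra.FinitePresentation L B] (X : Type u) [AddCommGroup X]
    [Module B X] [Module L X] [IsScalarTower L B X] [Module.FinitePresentation B X] :
    ∃ h : L, h ≠ 0 ∧ Module.Free (Localization.Away h) (Localization.Away h ⊗[L] X) := by
  obtain ⟨σ, hσ, π, hπs⟩ := Algebra.FiniteType.iff_quotient_mvPolynomial'.mp
    (inferInstance : Algebra.FiniteType L B)
  haveI : Finite σ := Finite.of_fintype σ
  let P := MvPolynomial σ L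
  letI : Algebra P B := π.toRingHom.toAlgebra
  haveI : IsScalarTower L P B := IsScalarTower.of_algebraMap_eq fun r => (π.commutes r).symm
  have hkerfg : (RingHom.ker π.toRingHom).FG :=
    Algebra.FinitePresentation.ker_fG_of_surjective π hπs
  haveI : Module.FinitePresentation P B :=
    Module.finitePresentation_of_surjective (Algebra.linearMap P B) hπs hkerfg
  letI : Module P X := Module.compHom X (algebraMap P B)
  haveI : IsScalarTower P B X := IsScalarTower.of_algebraMap_smul fun _ _ => rfl
  haveI : IsScalarTower L P X := IsScalarTower.of_algebraMap_smul fun r x => by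
    show algebraMap P B (algebraMap L P r) • x = r • x
    rw [← IsScalarTower.algebraMap_apply, algebraMap_smul]
  haveI : Module.FinitePresentation P X := Module.FinitePresentation.trans P X B
  obtain ⟨n, K, eK, hK⟩ := Module.FinitePresentation.exists_fin P X
  obtain ⟨h, hh, -, hfree⟩ := exists_free_fp_module K hK (one_ne_zero (α := L))
  exact ⟨h, hh, Module.Free.of_equiv
    (AlgebraTensorModule.congr (LinearEquiv.refl _ _) (eK.symm.restrictScalars L))⟩

/-- The base change of a finite module to `R_f` becomes free after a further localization, once it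
is finitely presented over a finitely presented algebra. -/
theorem exists_free_module [IsReduced R] (M : Type u) [AddCommGroup M] [Module S M] [Module R M]
    [IsScalarTower R S M] (f : R) (hf : f ≠ 0)
    (hS : Algebra.FinitePresentation (Localization.Away f) (Localization.Away f ⊗[R] S))
    (hM : Module.FinitePresentation (Localization.Away (algebraMap R S f))
      (Localization.Away (algebraMap R S f) ⊗[S] M)) :
    ∃ f' : R, f' ≠ 0 ∧ f ∣ f' ∧
      Module.Free (Localization.Away f') (Localization.Away f' ⊗[R] M) := by
  let L := Localization.Away f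
  let Sf := Localization.Away (algebraMap R S f)
  letI : Algebra L Sf := (Localization.awayMap (algebraMap R S) f).toAlgebra
  haveI : IsScalarTower R L Sf := IsScalarTower.of_algebraMap_eq fun r => by
    show algebraMap R Sf r = Localization.awayMap (algebraMap R S) f (algebraMap R L r)
    rw [Localization.awayMap, IsLocalization.Away.map, IsLocalization.map_eq]
    exact IsScalarTower.algebraMap_apply R S Sf r
  haveI : IsLocalization (Algebra.algebraMapSubmonoid S (Submonoid.powers f)) Sf := by
    rw [Algebra.algebraMapSubmonoid_powers]; exact Localization.isLocalization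
  haveI : Algebra.IsPushout R L S Sf :=
    (Algebra.isPushout_of_isLocalization (Submonoid.powers f) L S Sf).symm
  haveI : Algebra.FinitePresentation L Sf :=
    Algebra.FinitePresentation.equiv (Algebra.IsPushout.equiv R L S Sf)
  haveI : Nontrivial L := by
    rw [← not_subsingleton_iff_nontrivial, IsLocalization.subsingleton_iff (S := L) (M := Submonoid.powers f)]
    rintro ⟨k, hk⟩
    exact hf (IsReduced.eq_zero f ⟨k, hk⟩)
  obtain ⟨h, hh, hfree⟩ := exists_free_of_fp (L := L) (B := Sf) (Sf ⊗[S] M)
  obtain ⟨k, a, ha⟩ := IsLocalization.Away.surj f h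
  have hfu : IsUnit (algebraMap R L f) := IsLocalization.Away.algebraMap_isUnit f
  have hfa : f * a ≠ 0 := fun h0 => by
    have : algebraMap R L a = 0 :=
      hfu.mul_right_eq_zero.1 (by rw [← map_mul, h0, map_zero])
    rw [this] at ha
    exact hh ((hfu.pow k).mul_left_eq_zero.1 ha)
  refine ⟨f * a, hfa, dvd_mul_right f a, ?_⟩
  let L' := Localization.Away (f * a)
  have hu := IsLocalization.Away.algebraMap_isUnit (S := L') (f * a)
  rw [map_mul, IsUnit.mul_iff] at hu
  letI : Algebra L L' := (IsLocalization.Away.lift f hu.1).toAlgebra
  haveI : IsScalarTower R L L' := IsScalarTower.of_algebraMap_eq fun r =>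
    (IsLocalization.Away.lift_eq f hu.1 r).symm
  have huh : IsUnit (algebraMap L L' h) := by
    have := congrArg (algebraMap L L') ha
    rw [map_mul, map_pow, ← IsScalarTower.algebraMap_apply, ← IsScalarTower.algebraMap_apply] at this
    exact isUnit_of_dvd_unit ⟨_, this.symm⟩ hu.2
  have h1 : Module.Free L' (L' ⊗[L] (Sf ⊗[S] M)) :=
    FlatLib.free_tensor_of_isUnit L' huh hfree
  let e₁ : Sf ⊗[S] M ≃ₗ[L] L ⊗[R] M := Algebra.IsPushout.cancelBaseChange R L S Sf M
  exact Module.Free.of_equiv ((AlgebraTensorModule.congr (LinearEquiv.refl L' L') e₁).trans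
    (AlgebraTensorModule.cancelBaseChange R L L' L' M))

/-- Generic freeness and finite presentation over a reduced ring: every nonempty basic open contains
a good one. -/
theorem exists_good [IsReduced R] [Algebra.FiniteType R S] (M : Type u) [AddCommGroup M] [Module S M]
    [Module R M] [IsScalarTower R S M] [Module.Finite S M] {g : R} (hg : g ≠ 0) :
    ∃ f : R, f ≠ 0 ∧ g ∣ f ∧
      Module.Free (Localization.Away f) (LocalizedModule (Submonoid.powers f) M) ∧
      Module.Free (Localization.Away f) (LocalizedModule (Submonoid.powers f) S) ∧
      (Localization.awayMap (algebraMap R S) f).FinitePresentation ∧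
      Module.FinitePresentation (Localization.Away (algebraMap R S f))
        (LocalizedModule (Submonoid.powers (algebraMap R S f)) M) := by
  obtain ⟨f₁, hf₁, hg₁, h₁⟩ := FlatLib.exists_free_fp_algebra (S := S) hg
  letI : Module Sᵐᵒᵖ M := Module.compHom M ((RingHom.id S).fromOpposite mul_comm)
  haveI : IsCentralScalar S M := ⟨fun _ _ => rfl⟩
  let E := TrivSqZeroExt S M
  haveI : Module.Finite S E := inferInstanceAs (Module.Finite S (S × M))
  haveI : IsScalarTower R S E := IsScalarTower.of_algebraMap_eq fun r => rfl
  haveI : Algebra.FiniteType R E :=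
    Algebra.FiniteType.trans (inferInstance : Algebra.FiniteType R S) (inferInstance : Algebra.FiniteType S E)
  obtain ⟨f₂, hf₂, hd₂, h₂⟩ := FlatLib.exists_free_fp_algebra (S := E) hf₁
  have hu : ∀ {a b : R}, a ∣ b → IsUnit (algebraMap R (Localization.Away b) a) := fun {a b} h =>
    isUnit_of_dvd_unit (map_dvd _ h) (IsLocalization.Away.algebraMap_isUnit b)
  have hM₂ := finitePresentation_of_trivSqZero (M := M) (TrivSqZeroExt.inrHom S M)
    (TrivSqZeroExt.sndHom S M) (fun m => TrivSqZeroExt.snd_inr S m) f₂ (h₂ _ (hu dvd_rfl)).2
  obtain ⟨f₃, hf₃, hd₃, hfree⟩ := exists_free_module M f₂ hf₂ (h₁ _ (hu hd₂)).2 hM₂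
  have hM₃ := finitePresentation_of_trivSqZero (M := M) (TrivSqZeroExt.inrHom S M)
    (TrivSqZeroExt.sndHom S M) (fun m => TrivSqZeroExt.snd_inr S m) f₃ (h₂ _ (hu hd₃)).2
  obtain ⟨hSfree, hSfp⟩ := h₁ _ (hu (hd₂.trans hd₃))
  refine ⟨f₃, hf₃, (hg₁.trans hd₂).trans hd₃,
    Module.Free.of_equiv (LocalizedModule.equivTensorProduct (Submonoid.powers f₃) M).symm,
    Module.Free.of_equiv (LocalizedModule.equivTensorProduct (Submonoid.powers f₃) S).symm, ?_,
    Module.FinitePresentation.of_equiv
      (LocalizedModule.equivTensorProduct (Submonoid.powers (algebraMap R S f₃)) M).symm⟩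
  let L := Localization.Away f₃
  let Sf := Localization.Away (algebraMap R S f₃)
  letI : Algebra L Sf := (Localization.awayMap (algebraMap R S) f₃).toAlgebra
  haveI : IsScalarTower R L Sf := IsScalarTower.of_algebraMap_eq fun r => by
    show algebraMap R Sf r = Localization.awayMap (algebraMap R S) f₃ (algebraMap R L r)
    rw [Localization.awayMap, IsLocalization.Away.map, IsLocalization.map_eq]
    exact IsScalarTower.algebraMap_apply R S Sf r
  haveI : IsLocalization (Algebra.algebraMapSubmonoid S (Submonoid.powers f₃)) Sf := by
    rw [Algebra.algebraMapSubmonoid_powers]; exact Localization.isLocalization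
  haveI : Algebra.IsPushout R L S Sf :=
    (Algebra.isPushout_of_isLocalization (Submonoid.powers f₃) L S Sf).symm
  exact RingHom.finitePresentation_algebraMap.mpr
    (Algebra.FinitePresentation.equiv (Algebra.IsPushout.equiv R L S Sf))

end GenFreeRedLib
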