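import Groth.Agent.FlatLib.GenericReduced
import Groth.Agent.FlatLib.GenericFP

/-! Generic freeness of finitely presented modules over polynomial rings over a reduced base. -/

set_option autoImplicit false
set_option backward.isDefEq.respectTransparency false
set_option backward.isDefEq.respectTransparency.types false
universe u

open TensorProduct

namespace GenFreeRedLib

variable {σ R₀ R : Type u} [CommRing R₀] [CommRing R] [Algebra R₀ R] {r : ℕ}

variable (σ R₀ R r) in
/-- Change of coefficients on tuples of polynomials. -/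
noncomputable def mapFun :
    (Fin r → MvPolynomial σ R₀) →ₗ[R₀] (Fin r → MvPolynomial σ R) :=
  (MvPolynomial.mapAlgHom (Algebra.ofId R₀ R)).toLinearMap.compLeft (Fin r)

lemma mapFun_apply (v : Fin r → MvPolynomial σ R₀) (i : Fin r) :
    mapFun σ R₀ R r v i = MvPolynomial.map (algebraMap R₀ R) (v i) := rfl

theorem isBaseChange_mapFun : IsBaseChange R (mapFun σ R₀ R r) := by
  refine IsBaseChange.of_lift_unique _ fun Q _ _ _ _ g ↦ ?_
  let b₀ := Pi.basis fun _ : Fin r => MvPolynomial.basisMonomials σ R₀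
  let b := Pi.basis fun _ : Fin r => MvPolynomial.basisMonomials σ R
  have hb : ∀ a, mapFun σ R₀ R r (b₀ a) = b a := by
    rintro ⟨i, n⟩
    funext j
    simp only [b₀, b, mapFun_apply, Pi.basis_apply, MvPolynomial.coe_basisMonomials]
    by_cases h : j = i
    · subst h; simp
    · simp [h]
  let g' : (Fin r → MvPolynomial σ R) →ₗ[R] Q := b.constr ℕ fun a => g (b₀ a)
  refine ⟨g', b₀.ext fun a => ?_, fun h hh => b.ext fun a => ?_⟩
  · rw [LinearMap.comp_apply, LinearMap.restrictScalars_apply, hb]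
    exact b.constr_basis ℕ _ a
  · rw [show g' (b a) = g (b₀ a) from b.constr_basis ℕ _ a, ← hb]
    exact LinearMap.congr_fun hh (b₀ a)

/-- Quotients of base changes. -/
theorem isBaseChange_quot {X₀ X M₀ M : Type u} [AddCommGroup X₀] [Module R₀ X₀] [AddCommGroup X]
    [Module R₀ X] [Module R X] [IsScalarTower R₀ R X] [AddCommGroup M₀] [Module R₀ M₀]
    [AddCommGroup M] [Module R₀ M] [Module R M] [IsScalarTower R₀ R M] {ι : X₀ →ₗ[R₀] X}
    (hι : IsBaseChange R ι) (π₀ : X₀ →ₗ[R₀] M₀) (hπ₀ : Function.Surjective π₀) (π : X →ₗ[R] M)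
    (hπ : Function.Surjective π) (φ : M₀ →ₗ[R₀] M) (hφ : ∀ x, φ (π₀ x) = π (ι x))
    (hker : LinearMap.ker π = Submodule.span R (ι '' LinearMap.ker π₀)) : IsBaseChange R φ := by
  refine IsBaseChange.of_lift_unique _ fun Q _ _ _ _ g ↦ ?_
  letI : AddCommGroup Q := Module.addCommMonoidToAddCommGroup R
  let g' := hι.lift (g.comp π₀)
  have hle : LinearMap.ker π ≤ LinearMap.ker g' := by
    rw [hker, Submodule.span_le]
    rintro _ ⟨x, hx, rfl⟩
    show g' (ι x) = 0
    rw [hι.lift_eq, LinearMap.comp_apply, LinearMap.mem_ker.1 hx, map_zero]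
  let gl : M →ₗ[R] Q :=
    (LinearMap.ker π).liftQ g' hle ∘ₗ (π.quotKerEquivOfSurjective hπ).symm.toLinearMap
  have hgl : ∀ x, gl (π x) = g' x := fun x => by
    show (LinearMap.ker π).liftQ g' hle ((π.quotKerEquivOfSurjective hπ).symm (π x)) = g' x
    rw [show π x = π.quotKerEquivOfSurjective hπ (Submodule.Quotient.mk x) from rfl,
      LinearEquiv.symm_apply_apply]
    rfl
  refine ⟨gl, LinearMap.ext fun m => ?_, fun h hh => LinearMap.ext fun m => ?_⟩
  · obtain ⟨x, rfl⟩ := hπ₀ m
    rw [LinearMap.comp_apply, LinearMap.restrictScalars_apply, hφ, hgl, hι.lift_eq]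
    rfl
  · obtain ⟨x, rfl⟩ := hπ m
    rw [hgl]
    have : h.comp π = g' := hι.algHom_ext _ _ fun x => by
      rw [LinearMap.comp_apply, ← hφ, hι.lift_eq]
      exact LinearMap.congr_fun hh (π₀ x)
    exact LinearMap.congr_fun this x

theorem restrictScalars_span_image (N₀ : Submodule (MvPolynomial σ R₀) (Fin r → MvPolynomial σ R₀)) :
    (Submodule.span (MvPolynomial σ R) (mapFun σ R₀ R r '' N₀)).restrictScalars R =
      Submodule.span R (mapFun σ R₀ R r '' N₀) := by
  refine le_antisymm (fun z hz => ?_) (Submodule.span_le_restrictScalars _ _ _)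
  rw [Submodule.restrictScalars_mem] at hz
  induction hz using Submodule.span_induction with
  | mem z hz => exact Submodule.subset_span hz
  | zero => exact zero_mem _
  | add a b _ _ ha hb => exact add_mem ha hb
  | smul p a hsa ha =>
    clear hsa
    induction ha using Submodule.span_induction with
    | mem a ha =>
      obtain ⟨v, hv, rfl⟩ := ha
      induction p using MvPolynomial.induction_on' with
      | monomial n c =>
        have : MvPolynomial.monomial n c • mapFun σ R₀ R r v =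
            c • mapFun σ R₀ R r (MvPolynomial.monomial n (1 : R₀) • v) := by
          funext i
          simp only [Pi.smul_apply, smul_eq_mul, mapFun_apply, map_mul, MvPolynomial.map_monomial,
            map_one]
          rw [← smul_mul_assoc, MvPolynomial.smul_monomial, smul_eq_mul, mul_one]
        rw [this]
        exact Submodule.smul_mem _ _ (Submodule.subset_span ⟨_, N₀.smul_mem _ hv, rfl⟩)
      | add a b ha hb => rw [add_smul]; exact add_mem ha hb
    | zero => rw [smul_zero]; exact zero_mem _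
    | add a b _ _ ha hb => rw [smul_add]; exact add_mem ha hb
    | smul c a _ ha => rw [smul_comm]; exact Submodule.smul_mem _ c ha

/-- The reduction to the base over a minimal prime. -/
theorem free_of_base {σ R₀ R : Type u} [Finite σ] [CommRing R₀] [IsNoetherianRing R₀] [CommRing R]
    [IsReduced R] [Algebra R₀ R] {r : ℕ} (N₀ : Submodule (MvPolynomial σ R₀) (Fin r → MvPolynomial σ R₀))
    (N : Submodule (MvPolynomial σ R) (Fin r → MvPolynomial σ R))
    (hNN : N = Submodule.span (MvPolynomial σ R) (mapFun σ R₀ R r '' N₀))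
    {g : R} {p : Ideal R} [p.IsPrime] (hp : p ∈ minimalPrimes R) (hgp : g ∉ p) :
    ∃ f : R, f ≠ 0 ∧ g ∣ f ∧ Module.Free (Localization.Away f)
      (Localization.Away f ⊗[R] ((Fin r → MvPolynomial σ R) ⧸ N)) := by
  classical
  let M₀ := (Fin r → MvPolynomial σ R₀) ⧸ N₀
  let M := (Fin r → MvPolynomial σ R) ⧸ N
  let φ : M₀ →ₗ[R₀] M :=
    (N₀.restrictScalars R₀).liftQ ((N.mkQ.restrictScalars R₀).comp (mapFun σ R₀ R r)) (fun w hw ↦ by
      rw [LinearMap.mem_ker, LinearMap.comp_apply, LinearMap.restrictScalars_apply, Submodule.mkQ_apply,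
        Submodule.Quotient.mk_eq_zero, hNN]
      exact Submodule.subset_span ⟨w, hw, rfl⟩) ∘ₗ
      (Submodule.Quotient.restrictScalarsEquiv R₀ N₀).symm.toLinearMap
  have hφ : IsBaseChange R φ := by
    refine isBaseChange_quot isBaseChange_mapFun (N₀.mkQ.restrictScalars R₀) N₀.mkQ_surjective
      (N.mkQ.restrictScalars R) N.mkQ_surjective φ (fun _ ↦ rfl) ?_
    rw [LinearMap.ker_restrictScalars, LinearMap.ker_restrictScalars, Submodule.ker_mkQ,
      Submodule.ker_mkQ, hNN, restrictScalars_span_image]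
    rfl
  let p₀ : Ideal R₀ := p.comap (algebraMap R₀ R)
  obtain ⟨t, ht⟩ := (IsNoetherian.noetherian p₀ : p₀.FG)
  have hs : ∀ a ∈ t, ∃ s ∉ p, s * algebraMap R₀ R a = 0 := fun a ha ↦
    FlatLib.exists_mul_eq_zero_of_minimalPrime hp (show a ∈ p₀ from ht ▸ Ideal.subset_span ha)
  choose! s hsp hs using hs
  obtain ⟨f₀, hf₀, hfree⟩ :=
    FlatLib.exists_free_away (R := R₀) (S := MvPolynomial σ R₀) (M := M₀) p₀
  let f := g * algebraMap R₀ R f₀ * ∏ a ∈ t, s a
  have hfp : f ∉ p := by
    intro hf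
    rcases Ideal.IsPrime.mem_or_mem inferInstance hf with h | h
    · rcases Ideal.IsPrime.mem_or_mem inferInstance h with h | h
      exacts [hgp h, hf₀ h]
    · obtain ⟨a, ha, hsa⟩ := ((inferInstance : p.IsPrime).prod_mem_iff).mp h
      exact hsp a ha hsa
  refine ⟨f, fun h ↦ hfp (h ▸ zero_mem p), ⟨_, mul_assoc _ _ _⟩, ?_⟩
  let Lf := Localization.Away f
  have hu := IsLocalization.Away.algebraMap_isUnit (S := Lf) f
  rw [map_mul, map_mul, IsUnit.mul_iff, IsUnit.mul_iff] at hu
  have hkill : ∀ a ∈ p₀, algebraMap R₀ Lf a = 0 := by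
    intro a ha
    rw [← ht] at ha
    induction ha using Submodule.span_induction with
    | mem a ha =>
      have hua : IsUnit (algebraMap R Lf (s a)) :=
        isUnit_of_dvd_unit (map_dvd _ (Finset.dvd_prod_of_mem s ha)) hu.2
      rw [IsScalarTower.algebraMap_apply R₀ R Lf]
      refine hua.mul_right_eq_zero.mp ?_
      rw [← map_mul, hs a ha, map_zero]
    | zero => exact map_zero _
    | add a b _ _ ha hb => rw [map_add, ha, hb, add_zero]
    | smul c a _ ha => rw [smul_eq_mul, map_mul, ha, mul_zero]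
  let θ : (R₀ ⧸ p₀) →+* Lf := Ideal.Quotient.lift p₀ (algebraMap R₀ Lf) hkill
  letI : Algebra (R₀ ⧸ p₀) Lf := θ.toAlgebra
  haveI : IsScalarTower R₀ (R₀ ⧸ p₀) Lf := IsScalarTower.of_algebraMap_eq fun _ ↦ rfl
  let K := Localization.Away (Ideal.Quotient.mk p₀ f₀)
  have hu₀ : IsUnit (algebraMap (R₀ ⧸ p₀) Lf (Ideal.Quotient.mk p₀ f₀)) := by
    show IsUnit (algebraMap R₀ Lf f₀)
    rw [IsScalarTower.algebraMap_apply R₀ R Lf]
    exact hu.1.2
  letI : Algebra K Lf := (IsLocalization.Away.lift (Ideal.Quotient.mk p₀ f₀) hu₀).toAlgebra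
  haveI : IsScalarTower (R₀ ⧸ p₀) K Lf := IsScalarTower.of_algebraMap_eq fun r ↦
    (IsLocalization.Away.lift_eq (Ideal.Quotient.mk p₀ f₀) hu₀ r).symm
  haveI : IsScalarTower R₀ K Lf := IsScalarTower.of_algebraMap_eq fun r ↦ by
    rw [IsScalarTower.algebraMap_apply R₀ (R₀ ⧸ p₀) K, ← IsScalarTower.algebraMap_apply (R₀ ⧸ p₀) K Lf,
      ← IsScalarTower.algebraMap_apply]
  have := hfree
  exact Module.Free.of_equiv (((AlgebraTensorModule.cancelBaseChange R₀ K Lf Lf M₀).trans
    (AlgebraTensorModule.cancelBaseChange R₀ R Lf Lf M₀).symm).trans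
      (AlgebraTensorModule.congr (LinearEquiv.refl Lf Lf) hφ.equiv))

/-- Generic freeness of a finitely presented module over a polynomial ring over a reduced ring. -/
theorem exists_free_fp_module {σ R : Type u} [Finite σ] [CommRing R] [IsReduced R] {r : ℕ}
    (N : Submodule (MvPolynomial σ R) (Fin r → MvPolynomial σ R)) (hN : N.FG) {g : R} (hg : g ≠ 0) :
    ∃ f : R, f ≠ 0 ∧ g ∣ f ∧ Module.Free (Localization.Away f)
      (Localization.Away f ⊗[R] ((Fin r → MvPolynomial σ R) ⧸ N)) := by
  classical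
  obtain ⟨p, hp, hgp⟩ := FlatLib.exists_minimalPrime_notMem hg
  haveI : p.IsPrime := hp.1.1
  obtain ⟨G, rfl⟩ := hN
  let F : Finset R := insert g (G.biUnion fun v ↦ Finset.univ.biUnion fun i ↦ (v i).coeffs)
  let R₀ := Algebra.adjoin ℤ (F : Set R)
  haveI : Algebra.FiniteType ℤ R₀ :=
    Subalgebra.fg_iff_finiteType _ |>.mp (Subalgebra.fg_adjoin_finset _)
  haveI : IsNoetherianRing R₀ := Algebra.FiniteType.isNoetherianRing ℤ R₀
  have hlift : ∀ v ∈ G, ∃ v₀, mapFun σ R₀ R r v₀ = v := by
    intro v hv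
    have : ∀ i, ∃ P₀ : MvPolynomial σ R₀, MvPolynomial.map (algebraMap R₀ R) P₀ = v i := fun i ↦
      MvPolynomial.mem_range_map_iff_coeffs_subset.mpr fun c hc ↦
        ⟨⟨c, Algebra.subset_adjoin (Finset.mem_coe.mpr (Finset.mem_insert_of_mem
          (Finset.mem_biUnion.mpr ⟨v, hv, Finset.mem_biUnion.mpr ⟨i, Finset.mem_univ i, hc⟩⟩)))⟩, rfl⟩
    choose v₀ hv₀ using this
    exact ⟨v₀, funext hv₀⟩
  choose! L hL using hlift
  let N₀ : Submodule (MvPolynomial σ R₀) (Fin r → MvPolynomial σ R₀) :=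
    Submodule.span (MvPolynomial σ R₀) (L '' G)
  let N : Submodule (MvPolynomial σ R) (Fin r → MvPolynomial σ R) :=
    Submodule.span (MvPolynomial σ R) (G : Set _)
  have hNN : N = Submodule.span (MvPolynomial σ R) (mapFun σ R₀ R r '' N₀) := by
    refine le_antisymm (Submodule.span_mono fun v hv ↦ ⟨L v, Submodule.subset_span ⟨v, hv, rfl⟩, hL v hv⟩)
      (Submodule.span_le.2 ?_)
    rintro _ ⟨w, hw, rfl⟩
    induction hw using Submodule.span_induction with
    | mem w hw => obtain ⟨v, hv, rfl⟩ := hw; rw [hL v hv]; exact Submodule.subset_span hv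
    | zero => rw [map_zero]; exact zero_mem _
    | add a b _ _ ha hb => rw [map_add]; exact add_mem ha hb
    | smul c a _ ha =>
      rw [show mapFun σ R₀ R r (c • a) =
        MvPolynomial.map (algebraMap R₀ R) c • mapFun σ R₀ R r a from
          funext fun i ↦ map_mul (MvPolynomial.map (algebraMap R₀ R)) c (a i)]
      exact N.smul_mem _ ha
  exact free_of_base N₀ N hNN hp hgp

end GenFreeRedLib
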